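import Mathlib

/-!
Counting conjugacy classes of `p`-elements and of `π`-elements.
-/

set_option autoImplicit false

namespace Cfsg.Agent.PiClasses

universe u

/-- conjugacy class consists of `p`-elements -/
abbrev pClasses (p : ℕ) (G : Type u) [Group G] : Type u :=
  {c : ConjClasses G // ∀ x ∈ c.carrier, ∃ k : ℕ, orderOf x = p ^ k}

lemma isConj_orderOf {G : Type u} [Group G] {x y : G} (h : IsConj x y) :
    orderOf x = orderOf y := by
  obtain ⟨g, rfl⟩ := isConj_iff.mp h
  exact ((MulAut.conj g).orderOf_eq x).symm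

/-- the map from a Sylow `p`-subgroup to classes of `p`-elements -/
def toPClass {G : Type u} [Group G] {p : ℕ} [Fact p.Prime] (P : Sylow p G) (x : (P : Subgroup G)) :
    pClasses p G :=
  ⟨ConjClasses.mk (x : G), fun y hy => by
    obtain ⟨k, hk⟩ := IsPGroup.iff_orderOf.mp P.isPGroup' x
    refine ⟨k, ?_⟩
    rw [ConjClasses.mem_carrier_iff_mk_eq, ConjClasses.mk_eq_mk_iff_isConj] at hy
    rw [isConj_orderOf hy, ← hk, Subgroup.orderOf_coe]⟩

lemma toPClass_surjective {G : Type u} [Group G] [Finite G] {p : ℕ} [Fact p.Prime]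
    (P : Sylow p G) : Function.Surjective (toPClass P) := by
  rintro ⟨c, hc⟩
  obtain ⟨x, rfl⟩ := ConjClasses.exists_rep c
  obtain ⟨k, hk⟩ := hc x (ConjClasses.mem_carrier_mk)
  have hx : IsPGroup p (Subgroup.zpowers x) := by
    refine IsPGroup.of_card (n := k) ?_
    rw [Nat.card_zpowers, hk]
  obtain ⟨Q, hQ⟩ := hx.exists_le_sylow
  obtain ⟨g, hg⟩ := MulAction.exists_smul_eq G Q P
  have hmem : g * x * g⁻¹ ∈ (P : Subgroup G) := by
    rw [← hg]
    rw [Sylow.smul_def]
    exact Subgroup.smul_mem_pointwise_smul (a := MulAut.conj g) x _ (hQ (Subgroup.mem_zpowers x))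
  refine ⟨⟨_, hmem⟩, Subtype.ext ?_⟩
  simp only [toPClass]
  rw [ConjClasses.mk_eq_mk_iff_isConj, isConj_iff]
  exact ⟨g⁻¹, by group⟩

lemma card_pClasses_le {G : Type u} [Group G] [Finite G] {p : ℕ} [Fact p.Prime] (P : Sylow p G) :
    Nat.card (pClasses p G) ≤ Nat.card (P : Subgroup G) :=
  Nat.card_le_card_of_surjective _ (toPClass_surjective P)

/-- Main bound: unless `N(P) ≤ C(P)`, at most `(p+1)|P|/(2p)` classes of `p`-elements. -/
lemma two_mul_card_pClasses_le {G : Type u} [Group G] [Finite G] {p : ℕ} [Fact p.Prime]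
    (P : Sylow p G)
    (hN : ¬ Subgroup.normalizer ((P : Subgroup G) : Set G) ≤
      Subgroup.centralizer ((P : Subgroup G) : Set G)) :
    2 * p * Nat.card (pClasses p G) ≤ (p + 1) * Nat.card (P : Subgroup G) := by
  classical
  obtain ⟨g, hgN, hgC⟩ := SetLike.not_le_iff_exists.mp hN
  have : Fintype (P : Subgroup G) := Fintype.ofFinite _
  have : Fintype (pClasses p G) := Fintype.ofFinite _
  set f := toPClass P with hf
  let C : Subgroup (P : Subgroup G) :=
    (Subgroup.centralizer ({g} : Set G)).subgroupOf (P : Subgroup G)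
  let F : Finset (P : Subgroup G) := Finset.univ.filter (· ∈ C)
  let M : Finset (P : Subgroup G) := Finset.univ.filter (· ∉ C)
  have hCne : C ≠ ⊤ := by
    intro h
    apply hgC
    rw [Subgroup.mem_centralizer_iff]
    intro x hx
    have : (⟨x, hx⟩ : (P : Subgroup G)) ∈ C := h ▸ Subgroup.mem_top _
    rw [Subgroup.mem_subgroupOf, Subgroup.mem_centralizer_singleton_iff] at this
    exact this
  -- each fibre in `M` has two elements
  have hM : ∀ b ∈ M.image f, 2 ≤ (M.filter (fun a => f a = b)).card := by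
    intro b hb
    obtain ⟨x, hxM, rfl⟩ := Finset.mem_image.mp hb
    have hxC : x ∉ C := (Finset.mem_filter.mp hxM).2
    have hy : g * (x : G) * g⁻¹ ∈ (P : Subgroup G) :=
      (Subgroup.mem_normalizer_iff.mp hgN (x : G)).mp x.2
    set y : (P : Subgroup G) := ⟨_, hy⟩ with hydef
    have hne : y ≠ x := by
      intro h
      apply hxC
      rw [Subgroup.mem_subgroupOf, Subgroup.mem_centralizer_singleton_iff]
      have h' : g * (x : G) * g⁻¹ = x := congrArg Subtype.val h
      rw [mul_inv_eq_iff_eq_mul] at h'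
      exact h'.symm
    have hyM : y ∈ M := by
      refine Finset.mem_filter.mpr ⟨Finset.mem_univ _, fun hyC => hne ?_⟩
      rw [Subgroup.mem_subgroupOf, Subgroup.mem_centralizer_singleton_iff] at hyC
      apply Subtype.ext
      show g * (x : G) * g⁻¹ = x
      calc g * (x : G) * g⁻¹ = g⁻¹ * (g * (g * (x : G) * g⁻¹)) := by group
        _ = g⁻¹ * ((g * (x : G) * g⁻¹) * g) := congrArg (g⁻¹ * ·) hyC.symm
        _ = x := by group
    have hfy : f y = f x := by
      apply Subtype.ext
      show ConjClasses.mk (y : G) = ConjClasses.mk (x : G)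
      rw [ConjClasses.mk_eq_mk_iff_isConj, isConj_iff]
      exact ⟨g⁻¹, by simp [hydef, mul_assoc]⟩
    calc 2 = ({x, y} : Finset _).card := (Finset.card_pair hne.symm).symm
      _ ≤ _ := Finset.card_le_card (by
          intro a ha
          simp only [Finset.mem_insert, Finset.mem_singleton] at ha
          rcases ha with rfl | rfl
          · simp [hxM]
          · simp [hyM, hfy])
  have h1 : 2 * (M.image f).card ≤ M.card := Finset.mul_card_image_le_card M 2 hM
  have h2 : (F.image f).card ≤ F.card := Finset.card_image_le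
  have h3 : Fintype.card (pClasses p G) ≤ (F.image f).card + (M.image f).card := by
    refine le_trans ?_ (Finset.card_union_le _ _)
    rw [← Finset.card_univ]
    refine Finset.card_le_card fun b _ => ?_
    obtain ⟨a, rfl⟩ := toPClass_surjective P b
    by_cases ha : a ∈ C
    · exact Finset.mem_union_left _ (Finset.mem_image_of_mem _ (by simp [F, ha]))
    · exact Finset.mem_union_right _ (Finset.mem_image_of_mem _ (by simp [M, ha]))
  have h4 : F.card + M.card = Nat.card (P : Subgroup G) := by
    rw [Nat.card_eq_fintype_card, ← Finset.card_univ]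
    exact Finset.card_filter_add_card_filter_not _
  have h5 : F.card = Nat.card C := by
    rw [Nat.card_eq_fintype_card, Fintype.card_subtype]
  have h6 : p * Nat.card C ≤ Nat.card (P : Subgroup G) := by
    obtain ⟨n, hn⟩ := IsPGroup.iff_card.mp P.isPGroup'
    obtain ⟨k, hk, hk'⟩ := (Nat.dvd_prime_pow (Fact.out : p.Prime)).mp
      (hn ▸ Subgroup.card_subgroup_dvd_card C)
    rcases hk.lt_or_eq with hlt | rfl
    · rw [hk', hn, ← pow_succ']
      exact Nat.pow_le_pow_right (Fact.out : p.Prime).pos hlt
    · exact absurd (Subgroup.eq_top_of_card_eq C (hk'.trans hn.symm)) hCne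
  rw [Nat.card_eq_fintype_card]
  nlinarith [(Fact.out : p.Prime).pos, h1, h2, h3, h4, h5, h6]

/-- if there are many classes of `p`-elements then `N(P) ≤ C(P)` -/
lemma normalizer_le_centralizer_of_lt {G : Type u} [Group G] [Finite G] {p : ℕ} [Fact p.Prime]
    (P : Sylow p G)
    (h : (p + 1) * Nat.card (P : Subgroup G) < 2 * p * Nat.card (pClasses p G)) :
    Subgroup.normalizer ((P : Subgroup G) : Set G) ≤
      Subgroup.centralizer ((P : Subgroup G) : Set G) := by
  by_contra hN
  exact absurd h (not_lt.mpr (two_mul_card_pClasses_le P hN))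

lemma isMulCommutative_of_normalizer_le_centralizer {G : Type u} [Group G] (P : Subgroup G)
    (h : Subgroup.normalizer (P : Set G) ≤ Subgroup.centralizer (P : Set G)) :
    IsMulCommutative P := by
  refine ⟨⟨fun a b => Subtype.ext ?_⟩⟩
  exact (Subgroup.mem_centralizer_iff.mp (h (Subgroup.le_normalizer b.2)) a a.2)

/-- abelian Sylow with normal complement: the classes of `p`-elements are at least `|P|` -/
lemma card_le_card_pClasses {G : Type u} [Group G] [Finite G] {p : ℕ} [Fact p.Prime]
    (P : Sylow p G) (hP : IsMulCommutative (P : Subgroup G)) (Q : Sylow p G) (N : Subgroup G)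
    [N.Normal] (hc : N.IsComplement' (Q : Subgroup G)) :
    Nat.card (P : Subgroup G) ≤ Nat.card (pClasses p G) := by
  refine Nat.card_le_card_of_injective (toPClass P) fun x y hxy => ?_
  have hxy' : IsConj (x : G) (y : G) :=
    ConjClasses.mk_eq_mk_iff_isConj.mp (congrArg Subtype.val hxy)
  obtain ⟨g, hg⟩ := isConj_iff.mp hxy'
  have hidx : N.index = Nat.card (P : Subgroup G) :=
    (hc.symm.index_eq_card).trans (Sylow.card_eq_multiplicity Q ▸ Sylow.card_eq_multiplicity P).symm
  have hcardN : Nat.card N = (P : Subgroup G).index := by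
    have h1 := N.card_mul_index
    have h2 := (P : Subgroup G).card_mul_index
    rw [hidx] at h1
    have h3 : 0 < Nat.card (P : Subgroup G) := Nat.card_pos
    nlinarith
  have hdisj : N ⊓ (P : Subgroup G) = ⊥ := by
    refine Subgroup.inf_eq_bot_of_coprime ?_
    rw [hcardN]
    exact P.card_coprime_index.symm
  let φ : (P : Subgroup G) →* G ⧸ N := (QuotientGroup.mk' N).comp (P : Subgroup G).subtype
  have hinj : Function.Injective φ := by
    rw [← MonoidHom.ker_eq_bot_iff, eq_bot_iff]
    intro a ha
    have haN : (a : G) ∈ N := (QuotientGroup.eq_one_iff _).mp ha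
    have : (a : G) ∈ (⊥ : Subgroup G) := hdisj ▸ ⟨haN, a.2⟩
    exact Subgroup.mem_bot.mpr (Subtype.ext (Subgroup.mem_bot.mp this))
  have hbij : Function.Bijective φ := by
    refine (Nat.bijective_iff_injective_and_card φ).mpr ⟨hinj, ?_⟩
    rw [← hidx]; rfl
  apply hinj
  obtain ⟨t, ht⟩ := hbij.2 (QuotientGroup.mk' N g)
  have h1 : φ t * φ x * (φ t)⁻¹ = φ y := by
    rw [ht]; simp only [φ, MonoidHom.coe_comp, Function.comp_apply, Subgroup.coe_subtype]
    rw [← map_inv, ← map_mul, ← map_mul, hg]
  have h2 : φ t * φ x = φ x * φ t := by rw [← map_mul, ← map_mul, hP.is_comm.comm t x]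
  rwa [h2, mul_inv_cancel_right] at h1

end Cfsg.Agent.PiClasses
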