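import Cfsg.Agent.Lib.PiClasses.Basic

/-!
`k_π(G) ≤ k_q(G) * |G|_{π∖q}` and `k_π(G) ≤ |G|_π`.
-/

set_option autoImplicit false

namespace Cfsg.Agent.PiClasses

universe u

/-- the `S`-part of a natural number -/
noncomputable def part (S : Finset ℕ) (n : ℕ) : ℕ := S.prod (fun r => r ^ n.factorization r)

/-- classes of `S`-elements -/
abbrev piClasses (S : Finset ℕ) (G : Type u) [Group G] : Type u :=
  {c : ConjClasses G // ∀ x ∈ c.carrier, ∀ r : ℕ, r.Prime → r ∣ orderOf x → r ∈ S}

lemma part_mono (S : Finset ℕ) (hS : ∀ r ∈ S, r.Prime) {a b : ℕ} (hb : b ≠ 0) (h : a ∣ b) :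
    part S a ≤ part S b := by
  refine Finset.prod_le_prod' fun r hr => ?_
  refine Nat.pow_le_pow_right (hS r hr).pos ?_
  have ha : a ≠ 0 := fun h0 => hb (by simpa [h0] using h)
  exact (Nat.factorization_le_iff_dvd ha hb).mpr h r

lemma exists_qexp (q n : ℕ) (hq : q.Prime) (hn : n ≠ 0) : ∃ e : ℕ,
    (n / q ^ n.factorization q) ∣ e ∧ e ≡ 1 [MOD q ^ n.factorization q] := by
  obtain ⟨k, h1, h2⟩ := Nat.chineseRemainder
    (Nat.Coprime.pow_left (n.factorization q) (Nat.coprime_ordCompl hq hn)) 1 0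
  exact ⟨k, Nat.modEq_zero_iff_dvd.mp h2, h1⟩

/-- exponent giving the `q`-part -/
noncomputable def qexp (q n : ℕ) : ℕ :=
  if h : q.Prime ∧ n ≠ 0 then Classical.choose (exists_qexp q n h.1 h.2) else 0

/-- the `q`-part of an element -/
noncomputable def qpart {G : Type u} [Group G] (q : ℕ) (x : G) : G := x ^ qexp q (orderOf x)

lemma qpart_conj {G : Type u} [Group G] (q : ℕ) (x g : G) :
    qpart q (g * x * g⁻¹) = g * qpart q x * g⁻¹ := by
  unfold qpart
  have : orderOf (g * x * g⁻¹) = orderOf x := (MulAut.conj g).orderOf_eq x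
  rw [this, conj_pow]

lemma qpart_spec {G : Type u} [Group G] [Finite G] {q : ℕ} (hq : q.Prime) (x : G) :
    (∃ k, orderOf (qpart q x) = q ^ k) ∧
    Commute (qpart q x) x ∧
    orderOf ((qpart q x)⁻¹ * x) ∣ orderOf x ∧
    ¬ q ∣ orderOf ((qpart q x)⁻¹ * x) := by
  have hn : orderOf x ≠ 0 := (orderOf_pos x).ne'
  set n := orderOf x with hndef
  set A := q ^ n.factorization q with hA
  set m := n / A with hm
  have hAm : A * m = n := Nat.ordProj_mul_ordCompl_eq_self n q
  obtain ⟨hme, he1⟩ : m ∣ qexp q n ∧ qexp q n ≡ 1 [MOD A] := by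
    unfold qexp
    rw [dif_pos ⟨hq, hn⟩]
    exact Classical.choose_spec (exists_qexp q n hq hn)
  set e := qexp q n
  have hu : qpart q x = x ^ e := rfl
  have hcomm : Commute (qpart q x) x := by rw [hu]; exact Commute.pow_self x e
  refine ⟨?_, hcomm, ?_, ?_⟩
  · have hd : orderOf (qpart q x) ∣ A := by
      refine orderOf_dvd_of_pow_eq_one ?_
      rw [hu, ← pow_mul, ← orderOf_dvd_iff_pow_eq_one, ← hndef, ← hAm, mul_comm A m]
      exact Nat.mul_dvd_mul_right hme A
    obtain ⟨k, -, hk⟩ := (Nat.dvd_prime_pow hq).mp hd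
    exact ⟨k, hk⟩
  · refine orderOf_dvd_of_pow_eq_one ?_
    rw [(hcomm.inv_left).mul_pow, hndef, pow_orderOf_eq_one, mul_one, inv_pow, hu, ← pow_mul,
      mul_comm, pow_mul, pow_orderOf_eq_one, one_pow, inv_one]
  · intro hdvd
    have hd : orderOf ((qpart q x)⁻¹ * x) ∣ m := by
      refine orderOf_dvd_of_pow_eq_one ?_
      rw [(hcomm.inv_left).mul_pow, inv_pow, hu, ← pow_mul, inv_mul_eq_one, pow_eq_pow_iff_modEq,
        ← hndef, ← hAm]
      have := Nat.ModEq.mul_right' m he1
      rwa [one_mul] at this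
    exact Nat.not_dvd_ordCompl hq hn (hdvd.trans hd)

lemma card_piClasses_insert_le {G : Type u} [Group G] [Finite G] {q : ℕ} [Fact q.Prime]
    (S : Finset ℕ) (hS : ∀ r ∈ S, r.Prime)
    (hbound : ∀ (H : Subgroup G), Nat.card (piClasses S H) ≤ part S (Nat.card H)) :
    Nat.card (piClasses (insert q S) G) ≤ Nat.card (pClasses q G) * part S (Nat.card G) := by
  classical
  have hq : q.Prime := Fact.out
  -- representatives
  let rep : pClasses q G → G := fun d => Quotient.out d.1
  have hrep : ∀ d, ConjClasses.mk (rep d) = d.1 := fun d => Quotient.out_eq d.1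
  have key : ∀ c : piClasses (insert q S) G, ∃ (d : pClasses q G) (x : G),
      ConjClasses.mk x = c.1 ∧ qpart q x = rep d := by
    intro c
    obtain ⟨x, hx⟩ := ConjClasses.exists_rep c.1
    obtain ⟨k, hk⟩ := (qpart_spec hq x).1
    refine ⟨⟨ConjClasses.mk (qpart q x), fun y hy => ⟨k, ?_⟩⟩, ?_⟩
    · rw [ConjClasses.mem_carrier_iff_mk_eq, ConjClasses.mk_eq_mk_iff_isConj] at hy
      rw [isConj_orderOf hy, hk]
    · obtain ⟨g, hg⟩ : ∃ g, g * qpart q x * g⁻¹ = Quotient.out (ConjClasses.mk (qpart q x)) :=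
        isConj_iff.mp (ConjClasses.mk_eq_mk_iff_isConj.mp (Quotient.out_eq _).symm)
      refine ⟨g * x * g⁻¹, ?_, ?_⟩
      · rw [← hx, ConjClasses.mk_eq_mk_iff_isConj, isConj_iff]
        exact ⟨g⁻¹, by group⟩
      · rw [qpart_conj, hg]
  choose d x hx hu using key
  have hv : ∀ c, (qpart q (x c))⁻¹ * x c ∈ Subgroup.centralizer ({rep (d c)} : Set G) := by
    intro c
    rw [Subgroup.mem_centralizer_singleton_iff, ← hu c]
    have h := (qpart_spec hq (x c)).2.1
    rw [mul_assoc, ← h.eq, inv_mul_cancel_left, mul_inv_cancel_left]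
  let C : pClasses q G → Subgroup G := fun d => Subgroup.centralizer ({rep d} : Set G)
  let F : piClasses (insert q S) G → Σ d : pClasses q G, piClasses S (C d) := fun c =>
    ⟨d c, ⟨ConjClasses.mk ⟨_, hv c⟩, by
      intro y hy r hr hry
      rw [ConjClasses.mem_carrier_iff_mk_eq, ConjClasses.mk_eq_mk_iff_isConj] at hy
      rw [isConj_orderOf hy, Subgroup.orderOf_mk] at hry
      have hs := qpart_spec hq (x c)
      have hmem := c.2 (x c) (ConjClasses.mem_carrier_iff_mk_eq.mpr (hx c)) r hr
        (hry.trans hs.2.2.1)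
      rcases Finset.mem_insert.mp hmem with h | h
      · exact absurd (h ▸ hry) hs.2.2.2
      · exact h⟩⟩
  let Φ : (Σ d : pClasses q G, piClasses S (C d)) → ConjClasses G := fun z =>
    Quotient.liftOn z.2.1 (fun v => ConjClasses.mk (rep z.1 * (v : G))) (by
      intro v w hvw
      obtain ⟨g, hg⟩ := isConj_iff.mp (hvw : IsConj v w)
      rw [ConjClasses.mk_eq_mk_iff_isConj, isConj_iff]
      refine ⟨(g : G), ?_⟩
      have hg' : (g : G) * (v : G) * (g : G)⁻¹ = (w : G) := congrArg Subtype.val hg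
      rw [← hg']
      have hc := Subgroup.mem_centralizer_singleton_iff.mp g.2
      calc (g : G) * (rep z.1 * (v : G)) * (g : G)⁻¹
          = ((g : G) * rep z.1) * ((v : G) * (g : G)⁻¹) := by group
        _ = (rep z.1 * (g : G)) * ((v : G) * (g : G)⁻¹) := by rw [hc]
        _ = _ := by group)
  have hΦ : ∀ c, Φ (F c) = c.1 := by
    intro c
    show ConjClasses.mk (rep (d c) * ((qpart q (x c))⁻¹ * x c)) = c.1
    rw [← hu c, mul_inv_cancel_left, hx c]
  have hF : Function.Injective F := fun c c' h => Subtype.ext (by rw [← hΦ c, ← hΦ c', h])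
  have : Fintype (pClasses q G) := Fintype.ofFinite _
  calc Nat.card (piClasses (insert q S) G)
      ≤ Nat.card (Σ d : pClasses q G, piClasses S (C d)) := Nat.card_le_card_of_injective F hF
    _ = ∑ d : pClasses q G, Nat.card (piClasses S (C d)) := Nat.card_sigma
    _ ≤ ∑ _d : pClasses q G, part S (Nat.card G) := Finset.sum_le_sum fun d _ =>
        (hbound _).trans (part_mono S hS Nat.card_pos.ne' (Subgroup.card_subgroup_dvd_card _))
    _ = _ := by simp [Nat.card_eq_fintype_card]

lemma card_piClasses_le_part (S : Finset ℕ) :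
    (∀ r ∈ S, r.Prime) → ∀ (G : Type u) [Group G] [Finite G],
      Nat.card (piClasses S G) ≤ part S (Nat.card G) := by
  classical
  induction S using Finset.induction with
  | empty =>
    intro _ G _ _
    have hs : Subsingleton (piClasses (∅ : Finset ℕ) G) := by
      refine ⟨fun a b => Subtype.ext ?_⟩
      have key : ∀ a : piClasses (∅ : Finset ℕ) G, a.1 = ConjClasses.mk 1 := by
        intro a
        obtain ⟨x, hx⟩ := ConjClasses.exists_rep a.1
        rw [← hx]
        congr 1
        rw [← orderOf_eq_one_iff]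
        by_contra hne
        obtain ⟨r, hr, hrd⟩ := Nat.exists_prime_and_dvd hne
        simpa using a.2 x (ConjClasses.mem_carrier_iff_mk_eq.mpr hx) r hr hrd
      rw [key a, key b]
    have : part (∅ : Finset ℕ) (Nat.card G) = 1 := rfl
    rw [this]
    exact Finite.card_le_one_iff_subsingleton.mpr hs
  | @insert q S hqS ih =>
    intro hS G _ _
    haveI : Fact q.Prime := ⟨hS q (Finset.mem_insert_self q S)⟩
    have hS' : ∀ r ∈ S, r.Prime := fun r hr => hS r (Finset.mem_insert_of_mem hr)
    obtain ⟨P⟩ : Nonempty (Sylow q G) := Sylow.nonempty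
    calc Nat.card (piClasses (insert q S) G)
        ≤ Nat.card (pClasses q G) * part S (Nat.card G) :=
          card_piClasses_insert_le S hS' (fun H => ih hS' H)
      _ ≤ q ^ (Nat.card G).factorization q * part S (Nat.card G) :=
          Nat.mul_le_mul_right _ ((card_pClasses_le P).trans_eq P.card_eq_multiplicity)
      _ = _ := by simp [part, Finset.prod_insert hqS]

end Cfsg.Agent.PiClasses
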